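import Mathlib.FieldTheory.Finite.Basic

/-!
Points on the conics `y² - u z² = r` over a finite field of odd order.
-/

set_option autoImplicit false

namespace CfsgLib.Recog.GW.Gen

open Finset

variable {F : Type*} [Field F] [Fintype F] [DecidableEq F]

/-- The points of `y² - u z² = r`. -/
def circle (u r : F) : Finset (F × F) := univ.filter fun p => p.1 * p.1 - u * (p.2 * p.2) = r

theorem mem_circle {u r : F} {p : F × F} : p ∈ circle u r ↔ p.1 * p.1 - u * (p.2 * p.2) = r := by
  simp [circle]

/-- The points of the sphere over a set of first coordinates. -/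
def sphereOn (u : F) (P : Finset F) : Finset (Σ _ : F, F × F) :=
  P.sigma fun x => circle u (1 - x * x)

/-- The first coordinates whose circle has non-square radius. -/
def nsqX : Finset F := univ.filter fun x => ¬ IsSquare (1 - x * x)

/-- The first coordinates whose circle has nonzero square radius. -/
def sqX : Finset F := univ.filter fun x => IsSquare (1 - x * x) ∧ 1 - x * x ≠ 0

omit [DecidableEq F] in
theorem odd_iff_two_ne_zero : Odd (Fintype.card F) ↔ (2 : F) ≠ 0 := by
  constructor
  · rintro ⟨k, hk⟩ h
    have h0 := FiniteField.cast_card_eq_zero F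
    rw [hk] at h0
    push_cast at h0
    rw [h, zero_mul, zero_add] at h0
    exact one_ne_zero h0
  · intro h
    obtain ⟨p, hp⟩ := CharP.exists F
    obtain ⟨n, hpr, hn⟩ := FiniteField.card F p
    rw [hn]
    refine (hpr.odd_of_ne_two fun e => h ?_).pow
    subst e
    exact_mod_cast CharP.cast_eq_zero F 2

/-- Every radius is represented. -/
theorem circle_nonempty (h2 : (2 : F) ≠ 0) {u : F} (hu : u ≠ 0) (r : F) :
    (circle u r).Nonempty := by
  have hodd : Fintype.card F % 2 = 1 := Nat.odd_iff.1 (odd_iff_two_ne_zero.2 h2)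
  obtain ⟨a, b, hab⟩ := FiniteField.exists_root_sum_quadratic
    (f := (Polynomial.X : Polynomial F) ^ 2 - Polynomial.C r)
    (g := Polynomial.C (-u) * Polynomial.X ^ 2)
    (Polynomial.degree_X_pow_sub_C (by norm_num) r)
    (Polynomial.degree_C_mul_X_pow 2 (neg_ne_zero.2 hu)) hodd
  simp only [Polynomial.eval_sub, Polynomial.eval_pow, Polynomial.eval_X, Polynomial.eval_C,
    Polynomial.eval_mul] at hab
  exact ⟨(a, b), mem_circle.2 (by linear_combination hab)⟩

/-- All nonzero radii give the same number of points. -/
theorem card_circle (h2 : (2 : F) ≠ 0) {u : F} (hu : u ≠ 0) {r : F} (hr : r ≠ 0) :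
    (circle u r).card = (circle u 1).card := by
  obtain ⟨⟨a, b⟩, hab⟩ := circle_nonempty h2 hu r
  rw [mem_circle] at hab
  change a * a - u * (b * b) = r at hab
  refine (card_nbij' (fun p => (a * p.1 + u * b * p.2, a * p.2 + b * p.1))
    (fun p => ((a * p.1 - u * b * p.2) / r, (a * p.2 - b * p.1) / r)) ?_ ?_ ?_ ?_).symm
  · intro p hp
    rw [mem_coe, mem_circle] at hp ⊢
    linear_combination hp * r + (p.1 * p.1 - u * (p.2 * p.2)) * hab
  · intro p hp
    rw [mem_coe, mem_circle] at hp ⊢
    field_simp
    linear_combination hp * r + (p.1 * p.1 - u * (p.2 * p.2)) * hab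
  · intro p _
    refine Prod.ext ?_ ?_ <;> field_simp
    · linear_combination p.1 * hab
    · linear_combination p.2 * hab
  · intro p _
    refine Prod.ext ?_ ?_ <;> field_simp
    · linear_combination p.1 * hab
    · linear_combination p.2 * hab

theorem card_circle_one_le {u s : F} (h2 : (2 : F) ≠ 0) (hs0 : s ≠ 0) (hs : s * s = u) :
    (circle u 1).card ≤ Fintype.card F := by
  rw [← card_univ]
  refine card_le_card_of_injOn (fun p => p.1 - s * p.2) (fun p _ => mem_univ _) ?_
  intro p hp q hq h
  rw [mem_coe, mem_circle, ← hs] at hp hq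
  simp only at h
  have hp' : (p.1 - s * p.2) * (p.1 + s * p.2) = 1 := by linear_combination hp
  have hq' : (p.1 - s * p.2) * (q.1 + s * q.2) = 1 := by rw [h]; linear_combination hq
  have hne : p.1 - s * p.2 ≠ 0 := fun e => by rw [e, zero_mul] at hp'; exact zero_ne_one hp'
  have h' := mul_left_cancel₀ hne (hp'.trans hq'.symm)
  have h1 : p.1 = q.1 := mul_left_cancel₀ h2 (by linear_combination h + h')
  have h3 : p.2 = q.2 := mul_left_cancel₀ (mul_ne_zero h2 hs0) (by linear_combination h' - h)
  exact Prod.ext h1 h3

/-- A point with nonzero first coordinate. -/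
theorem exists_ne_zero_point (h5 : 5 ≤ Fintype.card F) (h2 : (2 : F) ≠ 0) {u s : F} (hs0 : s ≠ 0)
    (hs : s * s = u) (r : F) : ∃ y z : F, y ≠ 0 ∧ y * y - u * (z * z) = r := by
  obtain ⟨t, ht, htr⟩ : ∃ t : F, t ≠ 0 ∧ t * t + r ≠ 0 := by
    by_contra h
    push Not at h
    have key : ∀ a : F, a ≠ 0 → ∀ b : F, b ≠ 0 → b = a ∨ b = -a := fun a ha b hb =>
      mul_self_eq_mul_self_iff.1 (by linear_combination h b hb - h a ha)
    have hle : (univ : Finset F) ⊆ {0, 1, -1} := fun b _ => by
      simp only [mem_insert, mem_singleton]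
      by_cases hb : b = 0
      · exact Or.inl hb
      · exact Or.inr (key 1 one_ne_zero b hb)
    have := (card_le_card hle).trans card_le_three
    rw [card_univ] at this
    omega
  refine ⟨(t * t + r) / (2 * t), (t * t - r) / (2 * t * s), div_ne_zero htr (mul_ne_zero h2 ht), ?_⟩
  rw [← hs]
  field_simp
  ring

theorem card_x_split (h2 : (2 : F) ≠ 0) :
    (sqX (F := F)).card + (nsqX (F := F)).card + 2 = Fintype.card F := by
  classical
  have h0 : (univ.filter fun x : F => 1 - x * x = 0) = {1, -1} := by
    ext x
    simp only [mem_filter, mem_univ, true_and, mem_insert, mem_singleton]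
    constructor
    · intro h
      exact mul_self_eq_one_iff.1 (by linear_combination -h)
    · rintro (rfl | rfl) <;> ring
  have h01 : (univ.filter fun x : F => 1 - x * x = 0).card = 2 := by
    rw [h0]
    exact card_pair fun e => h2 (by linear_combination e)
  have hs := card_filter_add_card_filter_not (s := (univ : Finset F))
    (fun x => IsSquare (1 - x * x))
  have ht := card_filter_add_card_filter_not (s := univ.filter fun x : F => IsSquare (1 - x * x))
    (fun x => 1 - x * x ≠ 0)
  rw [filter_filter, filter_filter] at ht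
  have he : (univ.filter fun x : F => IsSquare (1 - x * x) ∧ ¬ (1 - x * x ≠ 0)) =
      univ.filter fun x : F => 1 - x * x = 0 := by
    refine filter_congr fun x _ => ?_
    rw [not_ne_iff]
    exact ⟨And.right, fun h => ⟨h ▸ IsSquare.zero, h⟩⟩
  rw [he, h01] at ht
  rw [card_univ] at hs
  show (univ.filter fun x : F => IsSquare (1 - x * x) ∧ 1 - x * x ≠ 0).card + _ + 2 = _
  unfold nsqX
  omega

/-- Square radii are no more than half, from the rational parametrisation of the unit circle. -/
theorem two_mul_card_sqX (h2 : (2 : F) ≠ 0) :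
    2 * (sqX (F := F)).card + 1 ≤ Fintype.card F ∧
      (IsSquare (-1 : F) → 2 * (sqX (F := F)).card + 3 ≤ Fintype.card F) := by
  classical
  set N := (univ.filter fun p : F × F => p.1 * p.1 + p.2 * p.2 = 1) with hN
  let g : F × F → Option F := fun p => if p.1 + 1 = 0 then none else some (p.2 / (p.1 + 1))
  have hgi : Set.InjOn g ↑N := by
    intro p hp q hq h
    rw [mem_coe, hN, mem_filter] at hp hq
    have hzero : ∀ p : F × F, p.1 * p.1 + p.2 * p.2 = 1 → p.1 + 1 = 0 → p = (-1, 0) := by
      intro p hp h
      have hx : p.1 = -1 := by linear_combination h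
      refine Prod.ext hx (mul_self_eq_zero.1 ?_)
      rw [hx] at hp
      linear_combination hp
    simp only [g] at h
    by_cases hp1 : p.1 + 1 = 0
    · by_cases hq1 : q.1 + 1 = 0
      · rw [hzero p hp.2 hp1, hzero q hq.2 hq1]
      · rw [if_pos hp1, if_neg hq1] at h; simp at h
    by_cases hq1 : q.1 + 1 = 0
    · rw [if_neg hp1, if_pos hq1] at h; simp at h
    rw [if_neg hp1, if_neg hq1, Option.some_inj] at h
    set t := q.2 / (q.1 + 1) with ht
    have hp2 : p.2 = t * (p.1 + 1) := by rw [← h, div_mul_cancel₀ _ hp1]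
    have hq2 : q.2 = t * (q.1 + 1) := by rw [ht, div_mul_cancel₀ _ hq1]
    have hpe : (p.1 - 1) + t * t * (p.1 + 1) = 0 := by
      have := hp.2
      rw [hp2] at this
      refine (mul_eq_zero.1 (?_ : (p.1 + 1) * ((p.1 - 1) + t * t * (p.1 + 1)) = 0)).resolve_left hp1
      linear_combination this
    have hqe : (q.1 - 1) + t * t * (q.1 + 1) = 0 := by
      have := hq.2
      rw [hq2] at this
      refine (mul_eq_zero.1 (?_ : (q.1 + 1) * ((q.1 - 1) + t * t * (q.1 + 1)) = 0)).resolve_left hq1
      linear_combination this
    have hx : p.1 = q.1 := by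
      by_contra hne
      have h1 : (1 + t * t) * (p.1 - q.1) = 0 := by linear_combination hpe - hqe
      rcases mul_eq_zero.1 h1 with e | e
      · exact h2 (by linear_combination -hpe + (p.1 + 1) * e)
      · exact hne (sub_eq_zero.1 e)
    exact Prod.ext hx (by rw [hp2, hq2, hx])
  have hmiss : ∀ i : F, i * i = -1 → ∀ p ∈ N, g p ≠ some i := by
    intro i hi p hp h
    rw [hN, mem_filter] at hp
    simp only [g] at h
    by_cases hp1 : p.1 + 1 = 0
    · rw [if_pos hp1] at h; simp at h
    rw [if_neg hp1, Option.some_inj, div_eq_iff hp1] at h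
    have hh := hp.2
    rw [h] at hh
    exact mul_ne_zero h2 hp1 (by linear_combination -hh + (p.1 + 1) * (p.1 + 1) * hi)
  -- the points from the square radii
  have hlow : 2 * (sqX (F := F)).card + 2 ≤ N.card := by
    have hfib : N.card = ∑ x : F, (N.filter fun p => p.1 = x).card :=
      card_eq_sum_card_fiberwise fun p _ => mem_univ _
    have hsub : sqX (F := F) ∪ {1, -1} ⊆ univ := subset_univ _
    have hdis : Disjoint (sqX (F := F)) {1, -1} := by
      rw [disjoint_left]
      intro x hx hx'
      simp only [sqX, mem_filter, mem_univ, true_and] at hx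
      simp only [mem_insert, mem_singleton] at hx'
      rcases hx' with rfl | rfl <;> exact hx.2 (by ring)
    have h1 : ∀ x ∈ sqX (F := F), 2 ≤ (N.filter fun p => p.1 = x).card := by
      intro x hx
      simp only [sqX, mem_filter, mem_univ, true_and] at hx
      obtain ⟨⟨y, hy⟩, hne⟩ := hx
      have hy0 : y ≠ 0 := fun e => hne (by rw [hy, e, mul_zero])
      have hcard : ({(x, y), (x, -y)} : Finset (F × F)).card = 2 := card_pair fun e => by
        have := congrArg Prod.snd e
        exact mul_ne_zero h2 hy0 (by linear_combination this)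
      refine hcard ▸ card_le_card fun p hp => ?_
      simp only [mem_insert, mem_singleton] at hp
      rw [mem_filter, hN, mem_filter]
      rcases hp with rfl | rfl <;>
        exact ⟨⟨mem_univ _, by linear_combination -hy⟩, rfl⟩
    have h3 : ∀ x ∈ ({1, -1} : Finset F), 1 ≤ (N.filter fun p => p.1 = x).card := by
      intro x hx
      simp only [mem_insert, mem_singleton] at hx
      refine card_pos.2 ⟨(x, 0), ?_⟩
      rw [mem_filter, hN, mem_filter]
      rcases hx with rfl | rfl <;> exact ⟨⟨mem_univ _, by ring⟩, rfl⟩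
    rw [hfib]
    calc 2 * (sqX (F := F)).card + 2
        ≤ ∑ x ∈ sqX (F := F), (N.filter fun p => p.1 = x).card +
          ∑ x ∈ ({1, -1} : Finset F), (N.filter fun p => p.1 = x).card := by
          refine Nat.add_le_add ?_ ?_
          · rw [mul_comm]
            simpa using card_nsmul_le_sum (sqX (F := F)) _ 2 h1
          · refine le_trans (le_of_eq ?_) (card_nsmul_le_sum _ _ 1 h3)
            rw [smul_eq_mul, mul_one, card_pair fun e => h2 (by linear_combination e)]
      _ = ∑ x ∈ sqX (F := F) ∪ {1, -1}, (N.filter fun p => p.1 = x).card := (sum_union hdis).symm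
      _ ≤ _ := sum_le_sum_of_subset hsub
  have hup : N.card ≤ Fintype.card F + 1 := by
    have := card_le_card_of_injOn g (fun p _ => mem_univ _) hgi
    rw [card_univ, Fintype.card_option] at this
    exact this
  refine ⟨by omega, ?_⟩
  rintro ⟨i, hi⟩
  have hi0 : i ≠ 0 := fun e => by rw [e, mul_zero] at hi; exact one_ne_zero (neg_eq_zero.1 hi)
  have h := card_le_card_of_injOn (s := N) g
    (t := ((univ : Finset (Option F)).erase (some i)).erase (some (-i))) (fun p hp => by
      refine mem_erase.2 ⟨hmiss (-i) (by linear_combination -hi) p hp,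
        mem_erase.2 ⟨hmiss i hi.symm p hp, mem_univ _⟩⟩) hgi
  rw [card_erase_of_mem (mem_erase.2 ⟨fun e => mul_ne_zero h2 hi0
      (by linear_combination -(Option.some_inj.1 e)), mem_univ _⟩),
    card_erase_of_mem (mem_univ _), card_univ, Fintype.card_option] at h
  omega

end CfsgLib.Recog.GW.Gen
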