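import Cfsg.Agent.Lib.Recog.GW.Gen.Model
import Cfsg.Agent.S2119

/-!
Every automorphism of order at most two of `A₇` fixes a four-group.
-/

set_option autoImplicit false

namespace CfsgLib.Recog.GW.Gen

open Equiv

/-- The four standard involutory permutations. -/
def reps : Fin 4 → Perm (Fin 7) :=
  ![1, swap 0 1, swap 0 1 * swap 2 3, swap 0 1 * swap 2 3 * swap 4 5]

/-- Four-groups commuting with them. -/
def fours : Fin 4 → Perm (Fin 7) × Perm (Fin 7) :=
  ![(swap 0 1 * swap 2 3, swap 0 2 * swap 1 3), (swap 2 3 * swap 4 5, swap 2 4 * swap 3 5),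
    (swap 0 1 * swap 2 3, swap 0 2 * swap 1 3), (swap 0 1 * swap 2 3, swap 0 1 * swap 4 5)]

theorem fours_spec : ∀ k, (Perm.sign (fours k).1 = 1 ∧ Perm.sign (fours k).2 = 1) ∧
    ((fours k).1 * (fours k).1 = 1 ∧ (fours k).2 * (fours k).2 = 1) ∧
    ((fours k).1 ≠ 1 ∧ (fours k).2 ≠ 1 ∧ (fours k).1 ≠ (fours k).2) ∧
    (fours k).1 * (fours k).2 = (fours k).2 * (fours k).1 ∧
    reps k * (fours k).1 = (fours k).1 * reps k ∧ reps k * (fours k).2 = (fours k).2 * reps k := by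
  decide +kernel

theorem reps_cycleType : ∀ k : Fin 4, (reps k).cycleType = Multiset.replicate k.val 2 := by
  decide +kernel

theorem isConj_reps (σ : Perm (Fin 7)) (h : σ * σ = 1) : ∃ k, IsConj (reps k) σ := by
  by_cases h1 : σ = 1
  · exact ⟨0, by rw [h1]; exact IsConj.refl _⟩
  have ho : orderOf σ = 2 := orderOf_eq_prime (by rw [pow_two, h]) h1
  haveI : Fact (Nat.Prime 2) := ⟨Nat.prime_two⟩
  obtain ⟨n, hn⟩ := Perm.cycleType_prime_order (σ := σ) (by rw [ho]; exact Nat.prime_two)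
  rw [ho] at hn
  have hs := σ.sum_cycleType
  have hle : σ.support.card ≤ 7 := by simpa using σ.support.card_le_univ
  rw [hn, Multiset.sum_replicate, smul_eq_mul] at hs
  refine ⟨⟨n + 1, by omega⟩, Perm.isConj_iff_cycleType_eq.2 ?_⟩
  rw [reps_cycleType, hn]

theorem not_noFour_altSeven {α : MulAut ↥(alternatingGroup (Fin 7))} (h : α * α = 1) :
    ¬ NoFour α := by
  intro hn
  obtain ⟨σ, rfl⟩ := (Cfsg.Agent.S2119.result 7 (by norm_num) (by norm_num)).2 α
  have hσ : σ * σ = 1 := by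
    refine (Cfsg.Agent.S2119.result 7 (by norm_num) (by norm_num)).1 ?_
    rw [map_mul, map_one]; exact h
  obtain ⟨k, hk⟩ := isConj_reps σ hσ
  obtain ⟨c, hc⟩ := isConj_iff.1 hk
  obtain ⟨⟨hs1, hs2⟩, ⟨ha, hb⟩, ⟨ha1, hb1, hab⟩, hcm, hra, hrb⟩ := fours_spec k
  have hn' : NoFour (MulAut.conjNormal (reps k) : MulAut ↥(alternatingGroup (Fin 7))) := by
    refine NoFour.of_conj (φ := MulAut.conjNormal c) ?_ hn
    rw [← map_mul, ← map_mul, ← hc, inv_mul_cancel_right]
  have hfix : ∀ (x : Perm (Fin 7)) (hx : x ∈ alternatingGroup (Fin 7)), reps k * x = x * reps k →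
      (MulAut.conjNormal (reps k) : MulAut ↥(alternatingGroup (Fin 7))) ⟨x, hx⟩ = ⟨x, hx⟩ :=
    fun x hx e => Subtype.ext (by
      rw [MulAut.conjNormal_apply]
      exact (congrArg (· * (reps k)⁻¹) e).trans (mul_inv_cancel_right _ _))
  have m1 := Perm.mem_alternatingGroup.2 hs1
  have m2 := Perm.mem_alternatingGroup.2 hs2
  exact hn' ⟨_, m1⟩ ⟨_, m2⟩ (hfix _ m1 hra) (hfix _ m2 hrb) (Subtype.ext ha) (Subtype.ext hb)
    (fun e => ha1 (congrArg Subtype.val e)) (fun e => hb1 (congrArg Subtype.val e))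
    (fun e => hab (congrArg Subtype.val e)) (Subtype.ext hcm)

end CfsgLib.Recog.GW.Gen
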