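import Cfsg.Agent.Lib.Recog.GW.Gen.Orbit
import Cfsg.Agent.Lib.Recog.GenDihedral.PSLExtension
import Cfsg.Agent.Lib.Geom.PairStab

/-!
Involutory automorphisms of `PSL₂(q)`, `q` odd, which fix no four-group, and generation by the
centralizers of two commuting such automorphisms.
-/

set_option autoImplicit false
set_option linter.unusedSectionVars false
set_option linter.style.haveILetI false

namespace CfsgLib.Recog.GW.Gen

open Matrix CfsgLib.KnownC
open scoped MatrixGroups

/-- An automorphism fixing no four-group pointwise. -/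
def NoFour {S : Type*} [Group S] (α : MulAut S) : Prop :=
  ∀ i j : S, α i = i → α j = j → i * i = 1 → j * j = 1 → i ≠ 1 → j ≠ 1 → i ≠ j →
    Commute i j → False

theorem NoFour.of_conj {S : Type*} [Group S] {α β φ : MulAut S} (h : α * φ = φ * β)
    (hα : NoFour α) : NoFour β := by
  intro i j hi hj hi2 hj2 hi1 hj1 hij hc
  refine hα (φ i) (φ j) ?_ ?_ (by rw [← map_mul, hi2, map_one]) (by rw [← map_mul, hj2, map_one])
    (fun e => hi1 (φ.map_eq_one_iff.1 e)) (fun e => hj1 (φ.map_eq_one_iff.1 e))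
    (fun e => hij (φ.injective e)) (hc.map φ)
  · rw [← MulAut.mul_apply, h, MulAut.mul_apply, hi]
  · rw [← MulAut.mul_apply, h, MulAut.mul_apply, hj]

theorem mul_self_of_orderOf {S : Type*} [Group S] {i : S} (h : orderOf i = 2) : i * i = 1 := by
  have := pow_orderOf_eq_one i
  rwa [h, pow_two] at this

variable {F : Type} [Field F] [Fintype F]

local notation "S2" => Matrix.ProjectiveSpecialLinearGroup (Fin 2) F
local notation "M2" => Matrix (Fin 2) (Fin 2) F
local notation "refl'" => RingEquiv.refl F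

theorem not_noFour_one (hodd : Odd (Fintype.card F)) (σ : F ≃+* F) :
    ¬ NoFour (semiAut (1 : GL (Fin 2) F) σ) := by
  intro h
  obtain ⟨i, j, hi, hj, hc, hne, hfix⟩ :=
    GenDihedral.exists_four (F := F) (GenDihedral.two_ne_zero_of_odd hodd)
  exact h i j (hfix σ).1 (hfix σ).2 (mul_self_of_orderOf hi) (mul_self_of_orderOf hj) (fun e => by rw [e, orderOf_one] at hi; omega)
    (fun e => by rw [e, orderOf_one] at hj; omega) hne hc

theorem mk_eq_of_scalar {s t : SL(2, F)} {c : F} (h : s.1 = c • t.1) :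
    (QuotientGroup.mk s : S2) = QuotientGroup.mk t := by
  refine (QuotientGroup.eq.2 ?_).symm
  refine Matrix.SpecialLinearGroup.mem_center_iff.2 ⟨c, ?_, ?_⟩
  · have := s.2
    rw [h, det_smul, t.2, mul_one] at this
    exact this
  · show scalar (Fin 2) c = (t⁻¹).1 * s.1
    rw [h, mul_smul_comm, show (t⁻¹).1 * t.1 = 1 from congrArg Subtype.val (inv_mul_cancel t),
      scalar_apply, ← smul_one_eq_diagonal]

theorem entries_of_mk_eq_one {s : SL(2, F)} (h : (QuotientGroup.mk s : S2) = 1) :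
    s.1 0 1 = 0 ∧ s.1 1 0 = 0 ∧ s.1 0 0 = s.1 1 1 := by
  obtain ⟨r, -, hr⟩ := Matrix.SpecialLinearGroup.mem_center_iff.1 ((QuotientGroup.eq_one_iff s).1 h)
  rw [← hr]; simp

/-- The monomial semilinear involution fixes a four-group. -/
theorem not_noFour_monomial (hodd : Odd (Fintype.card F)) {σ : F ≃+* F} (hσ : σ ≠ 1)
    (hσ2 : σ * σ = 1) {g : GL (Fin 2) F} {l : F} (hl : σ l = l) (hl0 : l ≠ 0)
    (hg : g.1 = !![0, l; 1, 0]) : ¬ NoFour (semiAut g σ) := by
  have h2 : (2 : F) ≠ 0 := GenDihedral.two_ne_zero_of_odd hodd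
  intro h
  obtain ⟨ι, hι⟩ := GenDihedral.isSquare_of_fixed h2 hσ hσ2 (a := (-1 : F)) (by rw [map_neg, map_one])
  obtain ⟨b, hb⟩ := GenDihedral.isSquare_of_fixed h2 hσ hσ2 hl
  have hι0 : ι ≠ 0 := fun e => by rw [e, mul_zero] at hι; exact one_ne_zero (neg_eq_zero.1 hι)
  have hb0 : b ≠ 0 := fun e => hl0 (by rw [hb, e, mul_zero])
  have hσι : σ ι = ι ∨ σ ι = -ι := mul_self_eq_mul_self_iff.1 (by
    rw [← map_mul, ← hι, map_neg, map_one])
  have hσb : σ b = b ∨ σ b = -b := mul_self_eq_mul_self_iff.1 (by rw [← map_mul, ← hb, hl])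
  let i : SL(2, F) := ⟨!![ι, 0; 0, -ι], by rw [Matrix.det_fin_two_of]; linear_combination hι⟩
  let j : SL(2, F) := ⟨!![0, b; -b⁻¹, 0], by rw [Matrix.det_fin_two_of]; field_simp; ring⟩
  have hfix : ∀ (s : SL(2, F)) (c : F), g.1 * s.1.map σ = c • (s.1 * g.1) →
      semiAut g σ (QuotientGroup.mk s : S2) = QuotientGroup.mk s := by
    intro s c e
    rw [semiAut_mk]
    refine mk_eq_of_scalar (c := c) ?_
    rw [slConj_coe, slField_coe, e, smul_mul_assoc, mul_assoc, Units.mul_inv, mul_one]
  have hi : semiAut g σ (QuotientGroup.mk i : S2) = QuotientGroup.mk i := by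
    rcases hσι with e | e
    · refine hfix i (-1) ?_
      rw [hg]; ext a c; fin_cases a <;> fin_cases c <;> simp [i, e, Matrix.mul_apply, mul_comm]
    · refine hfix i 1 ?_
      rw [hg]; ext a c; fin_cases a <;> fin_cases c <;> simp [i, e, Matrix.mul_apply, mul_comm]
  have hj : semiAut g σ (QuotientGroup.mk j : S2) = QuotientGroup.mk j := by
    rcases hσb with e | e
    · refine hfix j (-1) ?_
      rw [hg]; ext a c; fin_cases a <;> fin_cases c <;> simp [j, e, Matrix.mul_apply] <;>
        (field_simp; try (rw [hb]; ring))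
    · refine hfix j 1 ?_
      rw [hg]; ext a c; fin_cases a <;> fin_cases c <;> simp [j, e, Matrix.mul_apply] <;>
        (field_simp; try (rw [hb]; ring))
  have hsq : ∀ s : SL(2, F), s.1 * s.1 = (-1 : F) • (1 : M2) →
      (QuotientGroup.mk s : S2) * QuotientGroup.mk s = 1 := fun s hs => by
    rw [← QuotientGroup.mk_mul, ← QuotientGroup.mk_one]
    exact mk_eq_of_scalar (c := -1) (by show s.1 * s.1 = _; rw [hs]; rfl)
  refine h _ _ hi hj (hsq i ?_) (hsq j ?_) ?_ ?_ ?_ ?_
  · ext a c; fin_cases a <;> fin_cases c <;> simp [i, Matrix.mul_apply, ← hι]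
  · ext a c; fin_cases a <;> fin_cases c <;> simp [j, Matrix.mul_apply, hb0]
  · intro e
    have := (entries_of_mk_eq_one e).2.2
    simp [i] at this
    exact hι0 ((mul_eq_zero.1 (show (2 : F) * ι = 0 by linear_combination this)).resolve_left h2)
  · intro e
    have := (entries_of_mk_eq_one e).1
    simp [j] at this
    exact hb0 this
  · intro e
    have h1 := (entries_of_mk_eq_one (s := i * j) (by
      rw [QuotientGroup.mk_mul, ← e]
      refine hsq i ?_
      ext a c; fin_cases a <;> fin_cases c <;> simp [i, Matrix.mul_apply, ← hι])).1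
    rw [Matrix.SpecialLinearGroup.coe_mul, Matrix.mul_apply, Fin.sum_univ_two] at h1
    simp [i, j, hι0, hb0] at h1
  · show (QuotientGroup.mk i : S2) * QuotientGroup.mk j = QuotientGroup.mk j * QuotientGroup.mk i
    rw [← QuotientGroup.mk_mul, ← QuotientGroup.mk_mul]
    refine mk_eq_of_scalar (c := -1) ?_
    show i.1 * j.1 = (-1 : F) • (j.1 * i.1)
    ext a c; fin_cases a <;> fin_cases c <;> simp [i, j, Matrix.mul_apply, mul_comm]

/-- An involutory automorphism without fixed four-group has no field part. -/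
theorem field_part_trivial (hodd : Odd (Fintype.card F)) {g : GL (Fin 2) F} {σ : F ≃+* F}
    (hinv : semiAut g σ * semiAut g σ = 1) (hn : NoFour (semiAut g σ)) : σ = refl' := by
  by_contra hσ
  rw [semiAut_mul, semiAut_eq_one_iff le_rfl] at hinv
  obtain ⟨hσ2, hc⟩ := hinv
  have hσ2' : σ * σ = 1 := hσ2
  have hss : ∀ x, σ (σ x) = x := fun x => RingEquiv.congr_fun hσ2 x
  obtain ⟨l, hl⟩ := Matrix.GeneralLinearGroup.mem_center_iff_val_eq_scalar.1 hc
  have hl' : g.1 * g.1.map σ = (l : F) • (1 : M2) := by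
    have : g.1 * g.1.map σ = scalar (Fin 2) (l : F) := hl.symm
    rw [this, scalar_apply, smul_one_eq_diagonal]
  have h00 := congrFun (congrFun hl' 0) 0
  have h01 := congrFun (congrFun hl' 0) 1
  have h10 := congrFun (congrFun hl' 1) 0
  have h11 := congrFun (congrFun hl' 1) 1
  simp [Matrix.mul_apply, Fin.sum_univ_two] at h00 h01 h10 h11
  have hlf : σ (l : F) = l := by
    have e := congrArg (fun M : M2 => g.1.map σ * M) hl'
    have e' := congrArg (fun M : M2 => M.map σ) hl'
    simp only [Matrix.map_mul, Matrix.map_map] at e'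
    have hgg : g.1.map (σ ∘ σ) = g.1 := Matrix.ext fun a b => hss _
    rw [hgg, Matrix.map_smul' _ _ _ (map_mul σ), Matrix.map_one _ (map_zero σ) (map_one σ)] at e'
    simp only [← mul_assoc, e', smul_mul_assoc, one_mul, mul_smul_comm, mul_one] at e
    have hd : (g.1.map σ).det ≠ 0 := by
      rw [show g.1.map σ = (σ : F →+* F).mapMatrix g.1 from rfl, ← RingHom.map_det]
      exact (map_ne_zero _).2 (Matrix.GeneralLinearGroup.det_ne_zero g)
    by_contra hne
    have h0 : (σ (l : F) - l) • g.1.map σ = 0 := by rw [sub_smul, e, sub_self]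
    rcases smul_eq_zero.1 h0 with h0 | h0
    · exact hne (sub_eq_zero.1 h0)
    · exact hd (by rw [h0, det_zero])
  have hl0 : (l : F) ≠ 0 := fun e => by
    rw [e, zero_smul] at hl'
    have := congrArg Matrix.det hl'
    rw [det_mul, det_zero, mul_eq_zero] at this
    rcases this with h | h
    · exact Matrix.GeneralLinearGroup.det_ne_zero g h
    · rw [show g.1.map σ = (σ : F →+* F).mapMatrix g.1 from rfl, ← RingHom.map_det] at h
      exact Matrix.GeneralLinearGroup.det_ne_zero g ((map_eq_zero _).1 h)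
  -- a vector moved off its line
  by_cases hsc : g.1 0 1 = 0 ∧ g.1 1 0 = 0 ∧ g.1 0 0 = g.1 1 1
  · obtain ⟨a, b, c⟩ := hsc
    have hd : g.1 0 0 ≠ 0 := fun e =>
      Matrix.GeneralLinearGroup.det_ne_zero g (by rw [Matrix.det_fin_two, e, a]; ring)
    have hgc : g ∈ Subgroup.center (GL (Fin 2) F) := by
      refine Matrix.GeneralLinearGroup.mem_center_iff_val_eq_scalar.2 ⟨g.1 0 0, Eq.symm ?_⟩
      ext x y; fin_cases x <;> fin_cases y <;> simp [a, b, c]
    rw [show semiAut g σ = semiAut 1 σ from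
      (semiAut_eq_iff le_rfl g 1 σ σ).2 ⟨rfl, by rw [inv_one, one_mul]; exact hgc⟩] at hn
    exact not_noFour_one hodd σ hn
  obtain ⟨v₀, v₁, hv⟩ : ∃ v₀ v₁ : F,
      v₀ * (g.1 1 0 * σ v₀ + g.1 1 1 * σ v₁) - v₁ * (g.1 0 0 * σ v₀ + g.1 0 1 * σ v₁) ≠ 0 := by
    by_contra h
    push Not at h
    have a := h 1 0
    have b := h 0 1
    have c := h 1 1
    simp only [map_one, map_zero] at a b c
    exact hsc ⟨by linear_combination -b, by linear_combination a, by linear_combination -c + a + b⟩
  let h : GL (Fin 2) F := GeneralLinearGroup.mkOfDetNeZero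
    !![v₀, g.1 0 0 * σ v₀ + g.1 0 1 * σ v₁; v₁, g.1 1 0 * σ v₀ + g.1 1 1 * σ v₁] (by
      rw [Matrix.det_fin_two_of]
      intro e; exact hv (by linear_combination e))
  let C : GL (Fin 2) F := GeneralLinearGroup.mkOfDetNeZero !![0, (l : F); 1, 0] (by
    rw [Matrix.det_fin_two_of]; simp [hl0])
  have hC : C.1 = !![0, (l : F); 1, 0] := rfl
  refine not_noFour_monomial hodd (fun e => hσ e) hσ2' hlf hl0 hC ?_
  refine NoFour.of_conj (φ := semiAut h refl') ?_ hn
  rw [semiAut_mul, semiAut_mul, show σ * refl' = refl' * σ from (mul_one σ).trans (one_mul σ).symm]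
  congr 1
  refine Units.ext ?_
  show g.1 * h.1.map σ = h.1 * C.1.map (fun x => x)
  ext a b
  fin_cases a <;> fin_cases b <;>
    simp [h, C, Matrix.mul_apply, Fin.sum_univ_two, hss]
  · linear_combination v₀ * h00 + v₁ * h01
  · linear_combination v₀ * h10 + v₁ * h11

/-- An involution of `PGL₂` outside `PSL₂`. -/
theorem exists_traceless (hodd : Odd (Fintype.card F)) {α : MulAut S2} (hinv : α * α = 1)
    (hn : NoFour α) : ∃ (g : GL (Fin 2) F) (u : F), α = semiAut g refl' ∧
      g.1 * g.1 = u • (1 : M2) ∧ ¬ IsSquare (-u) ∧ g.1.trace = 0 := by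
  have h2 : (2 : F) ≠ 0 := GenDihedral.two_ne_zero_of_odd hodd
  rcases mulAut_psl_cases (le_refl 2) α with ⟨g, σ, rfl⟩ | ⟨h, -⟩
  swap
  · omega
  obtain rfl := field_part_trivial hodd hinv hn
  rw [semiAut_mul, semiAut_eq_one_iff le_rfl] at hinv
  obtain ⟨l, hl⟩ := Matrix.GeneralLinearGroup.mem_center_iff_val_eq_scalar.1 hinv.2
  have hl' : g.1 * g.1 = (l : F) • (1 : M2) := by
    have : g.1 * g.1.map (fun x => x) = scalar (Fin 2) (l : F) := hl.symm
    rw [Matrix.map_id'] at this
    rw [this, scalar_apply, smul_one_eq_diagonal]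
  have hnc : ¬ (g.1 0 1 = 0 ∧ g.1 1 0 = 0 ∧ g.1 0 0 = g.1 1 1) := by
    rintro ⟨a, b, c⟩
    have hd : g.1 0 0 ≠ 0 := fun e =>
      Matrix.GeneralLinearGroup.det_ne_zero g (by rw [Matrix.det_fin_two, e, a]; ring)
    have hgc : g ∈ Subgroup.center (GL (Fin 2) F) := by
      refine Matrix.GeneralLinearGroup.mem_center_iff_val_eq_scalar.2 ⟨g.1 0 0, Eq.symm ?_⟩
      ext x y; fin_cases x <;> fin_cases y <;> simp [a, b, c]
    rw [show semiAut g refl' = semiAut 1 refl' from
      (semiAut_eq_iff le_rfl g 1 _ _).2 ⟨rfl, by rw [inv_one, one_mul]; exact hgc⟩] at hn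
    exact not_noFour_one hodd _ hn
  have h00 := congrFun (congrFun hl' 0) 0
  have h01 := congrFun (congrFun hl' 0) 1
  have h10 := congrFun (congrFun hl' 1) 0
  have h11 := congrFun (congrFun hl' 1) 1
  simp [Matrix.mul_apply, Fin.sum_univ_two] at h00 h01 h10 h11
  have htr : g.1 0 0 + g.1 1 1 = 0 := by
    by_contra ht
    refine hnc ⟨?_, ?_, ?_⟩
    · exact (mul_eq_zero.1 (show g.1 0 1 * (g.1 0 0 + g.1 1 1) = 0 by
        linear_combination h01)).resolve_right ht
    · exact (mul_eq_zero.1 (show g.1 1 0 * (g.1 0 0 + g.1 1 1) = 0 by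
        linear_combination h10)).resolve_right ht
    · exact sub_eq_zero.1 ((mul_eq_zero.1 (show (g.1 0 0 - g.1 1 1) * (g.1 0 0 + g.1 1 1) = 0 by
        linear_combination h00 - h11)).resolve_right ht)
  refine ⟨g, l, rfl, hl', ?_, by rw [Matrix.trace_fin_two]; exact htr⟩
  rintro ⟨d, hd⟩
  -- the inner case
  have hl0 : (l : F) ≠ 0 := fun e => by
    rw [e, zero_smul] at hl'
    have := congrArg Matrix.det hl'
    rw [det_mul, det_zero, mul_self_eq_zero] at this
    exact Matrix.GeneralLinearGroup.det_ne_zero g this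
  have hd0 : d ≠ 0 := fun e => hl0 (neg_eq_zero.1 (by rw [hd, e, mul_zero]))
  let s : SL(2, F) := ⟨d⁻¹ • g.1, by
    rw [det_smul, Fintype.card_fin, Matrix.det_fin_two]
    field_simp
    linear_combination g.1 1 1 * htr - h11 + hd⟩
  have hαs : semiAut g refl' = MulAut.conj (QuotientGroup.mk s : S2) := by
    rw [conj_eq_semiAut]
    refine (semiAut_eq_iff le_rfl _ _ _ _).2 ⟨rfl, ?_⟩
    refine Matrix.GeneralLinearGroup.mem_center_iff_val_eq_scalar.2 ⟨d, Eq.symm ?_⟩
    show ((SpecialLinearGroup.toGL s)⁻¹ : GL (Fin 2) F).1 * g.1 = scalar (Fin 2) d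
    have e : g.1 = d • s.1 := by simp [s, smul_smul, hd0]
    rw [← map_inv, e, mul_smul_comm]
    show d • ((s⁻¹ * s : SL(2, F)) : M2) = _
    rw [inv_mul_cancel, scalar_apply, ← smul_one_eq_diagonal]
    rfl
  rw [hαs] at hn
  have hs1 : (QuotientGroup.mk s : S2) ≠ 1 := fun e => by
    rw [e, map_one, ← semiAut_one] at hn
    exact not_noFour_one hodd _ hn
  have hs2 : orderOf (QuotientGroup.mk s : S2) = 2 := by
    refine CfsgLib.Invol.invol_of_mul_self ?_ hs1
    rw [← QuotientGroup.mk_mul, ← QuotientGroup.mk_one]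
    refine mk_eq_of_scalar (c := -1) ?_
    show d⁻¹ • g.1 * (d⁻¹ • g.1) = (-1 : F) • (1 : M2)
    rw [smul_mul_assoc, mul_smul_comm, hl', smul_smul, smul_smul]
    congr 1
    field_simp
    linear_combination -hd
  obtain ⟨i, j, hi, hj, hc, hne, -⟩ := GenDihedral.exists_four (F := F) h2
  obtain ⟨y, hy⟩ := isConj_iff.1 (CfsgLib.Fusion.psl_two_involutions_conj hodd i _ hi hs2)
  refine hn (y * i * y⁻¹) (y * j * y⁻¹) ?_ ?_ ?_ ?_ ?_ ?_ ?_ ?_
  · rw [MulAut.conj_apply, hy, mul_inv_cancel_right]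
  · rw [MulAut.conj_apply, ← hy]
    calc y * i * y⁻¹ * (y * j * y⁻¹) * (y * i * y⁻¹)⁻¹ = y * (i * j) * i⁻¹ * y⁻¹ := by group
      _ = y * j * y⁻¹ := by rw [hc.eq]; group
  · rw [show y * i * y⁻¹ * (y * i * y⁻¹) = y * (i * i) * y⁻¹ by group, mul_self_of_orderOf hi,
      mul_one, mul_inv_cancel]
  · rw [show y * j * y⁻¹ * (y * j * y⁻¹) = y * (j * j) * y⁻¹ by group, mul_self_of_orderOf hj,
      mul_one, mul_inv_cancel]
  · intro e; rw [conj_eq_one_iff] at e; rw [e, orderOf_one] at hi; omega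
  · intro e; rw [conj_eq_one_iff] at e; rw [e, orderOf_one] at hj; omega
  · intro e; exact hne (mul_left_cancel (mul_right_cancel e))
  · exact hc.map (MulAut.conj y).toMonoidHom

/-- The stabiliser of a subgroup in the automorphism group. -/
def stab {S : Type*} [Group S] (K : Subgroup S) : Subgroup (MulAut S) where
  carrier := {φ | ∀ x, φ x ∈ K ↔ x ∈ K}
  one_mem' := fun _ => Iff.rfl
  mul_mem' := fun {φ ψ} h₁ h₂ x => (h₁ (ψ x)).trans (h₂ x)
  inv_mem' := fun {φ} h x => by
    have := h (φ⁻¹ x)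
    rw [MulAut.apply_inv_self] at this
    exact this.symm

/-- **Generation in `PSL₂(q)`.** -/
theorem psl_pair (hodd : Odd (Fintype.card F)) (h5 : 5 ≤ Fintype.card F) {α β : MulAut S2}
    (hα2 : α * α = 1) (hβ2 : β * β = 1) (hc : Commute α β) (hα : NoFour α) (hβ : NoFour β)
    (hne : α ≠ β) (hS : IsSimpleGroup S2) (K : Subgroup S2) (hαK : α ∈ stab K) (hβK : β ∈ stab K)
    (hfa : ∀ x, α x = x → x ∈ K) (hfb : ∀ x, β x = x → x ∈ K) : K = ⊤ := by
  classical
  have h2 : (2 : F) ≠ 0 := GenDihedral.two_ne_zero_of_odd hodd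
  obtain ⟨a, u, rfl, ha, hu, hta⟩ := exists_traceless hodd hα2 hα
  obtain ⟨b, v, rfl, hb, hv, htb⟩ := exists_traceless hodd hβ2 hβ
  have hu0 : u ≠ 0 := fun h => hu (by rw [h, neg_zero]; exact IsSquare.zero)
  have hv0 : v ≠ 0 := fun h => hv (by rw [h, neg_zero]; exact IsSquare.zero)
  have hc' : semiAut a refl' * semiAut b refl' = semiAut b refl' * semiAut a refl' := hc
  rw [semiAut_mul, semiAut_mul, semiAut_eq_iff le_rfl] at hc'
  obtain ⟨c, hcv⟩ := Matrix.GeneralLinearGroup.mem_center_iff_val_eq_scalar.1 hc'.2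
  have hab : a.1 * b.1 = (c : F) • (b.1 * a.1) := by
    have e : ((b * GeneralLinearGroup.map (refl' : F →+* F) a)⁻¹ *
        (a * GeneralLinearGroup.map (refl' : F →+* F) b) : GL (Fin 2) F).1 =
        (c : F) • (1 : M2) := by rw [← hcv, scalar_apply, smul_one_eq_diagonal]
    rw [show GeneralLinearGroup.map (refl' : F →+* F) a = a from Units.ext (Matrix.map_id' _),
      show GeneralLinearGroup.map (refl' : F →+* F) b = b from Units.ext (Matrix.map_id' _),
      Units.val_mul] at e
    have := congrArg (fun M : M2 => (b * a : GL (Fin 2) F).1 * M) e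
    rw [← Units.val_mul, ← Units.val_mul] at this
    simp only [← Units.val_mul, mul_inv_cancel_left, mul_smul_comm, mul_one] at this
    simpa only [Units.val_mul] using this
  have hcc : (c : F) * c = 1 := by
    have e : u • b.1 = ((c : F) * c) • (u • b.1) := by
      calc u • b.1 = a.1 * (a.1 * b.1) := by rw [← mul_assoc, ha, smul_mul_assoc, one_mul]
        _ = (c : F) • ((a.1 * b.1) * a.1) := by
            conv_lhs => rw [hab, mul_smul_comm, ← mul_assoc]
        _ = ((c : F) * c) • (b.1 * (a.1 * a.1)) := by rw [hab, smul_mul_assoc, smul_smul, mul_assoc]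
        _ = _ := by rw [ha, mul_smul_comm, mul_one]
    by_contra hne1
    have h0 : ((c : F) * c - 1) • (u • b.1) = 0 := by rw [sub_smul, one_smul, ← e, sub_self]
    rcases smul_eq_zero.1 h0 with h0 | h0
    · exact hne1 (sub_eq_zero.1 h0)
    · have := (smul_eq_zero.1 h0).resolve_left hu0
      exact Matrix.GeneralLinearGroup.det_ne_zero b (by rw [this, det_zero])
  -- the commuting case gives one automorphism
  have hanti : a.1 * b.1 = -(b.1 * a.1) := by
    rcases mul_self_eq_one_iff.1 hcc with e | e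
    · exfalso
      rw [e, one_smul] at hab
      rw [Matrix.trace_fin_two] at hta htb
      have ha1 : a.1 1 1 = -a.1 0 0 := by linear_combination hta
      have hb1 : b.1 1 1 = -b.1 0 0 := by linear_combination htb
      set d := a.1 0 0 * b.1 0 0 + a.1 0 1 * b.1 1 0 with hd
      have e1 := congrFun (congrFun hab 0) 0
      have e2 := congrFun (congrFun hab 0) 1
      have e3 := congrFun (congrFun hab 1) 0
      simp only [Matrix.mul_apply, Fin.sum_univ_two, ha1, hb1] at e1 e2 e3
      have hd' : a.1 * b.1 = d • (1 : M2) := by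
        ext x y; fin_cases x <;> fin_cases y <;>
          simp [Matrix.mul_apply, Fin.sum_univ_two, ha1, hb1, hd]
        · exact (mul_eq_zero.1 (show (2 : F) * (a.1 0 0 * b.1 0 1 + -(a.1 0 1 * b.1 0 0)) = 0 by
            linear_combination e2)).resolve_left h2
        · exact (mul_eq_zero.1 (show (2 : F) * (a.1 1 0 * b.1 0 0 + -(a.1 0 0 * b.1 1 0)) = 0 by
            linear_combination e3)).resolve_left h2
        · linear_combination -e1
      have hbv : v • a.1 = d • b.1 := by
        calc v • a.1 = a.1 * b.1 * b.1 := by rw [mul_assoc, hb, mul_smul_comm, mul_one]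
          _ = _ := by rw [hd', smul_mul_assoc, one_mul]
      refine hne ((semiAut_eq_iff le_rfl _ _ _ _).2 ⟨rfl, ?_⟩)
      have hd0 : d ≠ 0 := fun h0 => by
        rw [h0, zero_smul, smul_eq_zero] at hbv
        exact Matrix.GeneralLinearGroup.det_ne_zero a (by rw [hbv.resolve_left hv0, det_zero])
      refine Matrix.GeneralLinearGroup.mem_center_iff_val_eq_scalar.2
        ⟨d / v, Eq.symm ?_⟩
      have ea : a.1 = (d / v) • b.1 := by
        rw [div_eq_inv_mul, ← smul_smul, ← hbv, smul_smul, inv_mul_cancel₀ hv0, one_smul]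
      show (b⁻¹).1 * a.1 = scalar (Fin 2) (d / v)
      rw [ea, mul_smul_comm, Units.inv_mul, scalar_apply, smul_one_eq_diagonal]
    · rw [e, neg_one_smul] at hab; exact hab
  -- normalise the squares
  obtain ⟨k, hk⟩ : IsSquare (u / v) := by
    obtain ⟨w, hw⟩ := Pair.isSquare_mul_not hu hv
    exact ⟨w / v, by field_simp; linear_combination hw⟩
  have hk0 : k ≠ 0 := fun h => by rw [h, mul_zero, div_eq_zero_iff] at hk; tauto
  let P : Pair F :=
    { A := a.1, B := k • b.1, u := u, h2 := h2, hu := hu, hA := ha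
      hB := by rw [smul_mul_assoc, mul_smul_comm, hb, smul_smul, smul_smul, ← hk,
        div_mul_cancel₀ _ hv0]
      hAB := by rw [mul_smul_comm, smul_mul_assoc, hanti, smul_neg] }
  let ψ : GL (Fin 2) F →* MulAut S2 := inndiagHom
  have hψ : ∀ g, ψ g = semiAut g refl' := fun g => rfl
  let X : Subgroup (GL (Fin 2) F) := (stab K).comap ψ
  -- invertible elements commuting with an involution
  have htorus : ∀ (m : GL (Fin 2) F), semiAut m refl' ∈ stab K →
      (∀ x, semiAut m refl' x = x → x ∈ K) → ¬ IsSquare m.1.det →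
      ∀ g : GL (Fin 2) F, g.1 * m.1 = m.1 * g.1 → g ∈ X := by
    intro m hm hf hdm
    have inner : ∀ g : GL (Fin 2) F, g.1 * m.1 = m.1 * g.1 → IsSquare g.1.det → g ∈ X := by
      rintro g hg ⟨d, hd⟩
      have hd0 : d ≠ 0 := fun e =>
        Matrix.GeneralLinearGroup.det_ne_zero g (by rw [hd, e, mul_zero])
      let s : SL(2, F) := ⟨d⁻¹ • g.1, by
        rw [det_smul, Fintype.card_fin, hd]; field_simp⟩
      have hsK : (QuotientGroup.mk s : S2) ∈ K := by
        refine hf _ ?_
        rw [semiAut_mk]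
        refine congrArg _ (Subtype.ext ?_)
        rw [slConj_coe, slField_coe]
        show m.1 * (d⁻¹ • g.1).map (fun x => x) * (m⁻¹).1 = d⁻¹ • g.1
        rw [Matrix.map_id', mul_smul_comm, ← hg, smul_mul_assoc, mul_assoc, Units.mul_inv, mul_one]
      show semiAut g refl' ∈ stab K
      have e : semiAut g refl' = MulAut.conj (QuotientGroup.mk s : S2) := by
        rw [conj_eq_semiAut]
        refine (semiAut_eq_iff le_rfl _ _ _ _).2 ⟨rfl, ?_⟩
        refine Matrix.GeneralLinearGroup.mem_center_iff_val_eq_scalar.2 ⟨d, Eq.symm ?_⟩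
        show ((SpecialLinearGroup.toGL s)⁻¹ : GL (Fin 2) F).1 * g.1 = scalar (Fin 2) d
        have e : g.1 = d • s.1 := by simp [s, smul_smul, hd0]
        rw [← map_inv, e, mul_smul_comm]
        show d • ((s⁻¹ * s : SL(2, F)) : M2) = _
        rw [inv_mul_cancel, scalar_apply, ← smul_one_eq_diagonal]
        rfl
      rw [e]
      intro x
      rw [MulAut.conj_apply]
      exact ⟨fun h => by simpa [mul_assoc] using K.mul_mem (K.mul_mem (K.inv_mem hsK) h) hsK,
        fun h => K.mul_mem (K.mul_mem hsK h) (K.inv_mem hsK)⟩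
    intro g hg
    by_cases hdg : IsSquare g.1.det
    · exact inner g hg hdg
    have h1 : g * m ∈ X := inner (g * m) (by
      rw [Units.val_mul, hg, mul_assoc, ← hg]) (by
      rw [Units.val_mul, det_mul]; exact Pair.isSquare_mul_not hdg hdm)
    have := X.mul_mem h1 (X.inv_mem (show m ∈ X from hm))
    simpa [mul_assoc] using this
  have hdet : ∀ (m : GL (Fin 2) F) (w : F), m.1 * m.1 = w • (1 : M2) → m.1.trace = 0 →
      m.1.det = -w := by
    intro m w hw ht
    rw [Matrix.trace_fin_two] at ht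
    have h := congrFun (congrFun hw 0) 0
    simp [Matrix.mul_apply, Fin.sum_univ_two] at h
    rw [Matrix.det_fin_two]
    linear_combination m.1 0 0 * ht - h
  have hPA : P.HasTorus X := fun g p q hg =>
    htorus a hαK hfa (by rw [hdet a u ha hta]; exact hu) g (by
      rw [hg]; show (p • (1 : M2) + q • a.1) * a.1 = a.1 * (p • (1 : M2) + q • a.1)
      simp only [add_mul, mul_add, smul_mul_assoc, mul_smul_comm, one_mul, mul_one])
  have hPB : P.swap.HasTorus X := fun g p q hg =>
    htorus b hβK hfb (by rw [hdet b v hb htb]; exact hv) g (by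
      rw [hg]; show (p • (1 : M2) + q • k • b.1) * b.1 = b.1 * (p • (1 : M2) + q • k • b.1)
      simp only [add_mul, mul_add, smul_mul_assoc, mul_smul_comm, one_mul, mul_one])
  have hX := Pair.eq_top hPA hPB h5
  have hnorm : K.Normal := ⟨fun x hx y => by
    obtain ⟨s, rfl⟩ := QuotientGroup.mk_surjective y
    have h : ψ (SpecialLinearGroup.toGL s) ∈ stab K := by
      have : SpecialLinearGroup.toGL s ∈ X := hX ▸ Subgroup.mem_top _
      exact this
    rw [hψ, ← conj_eq_semiAut] at h
    exact (h x).2 hx⟩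
  rcases hnorm.eq_bot_or_eq_top with hbot | htop
  · -- the product of the two matrices gives a nontrivial fixed element
    exfalso
    let s : SL(2, F) := ⟨u⁻¹ • (P.A * P.B), by
      have t0 : (P.w 0 0 1) = P.A * P.B := by simp [Pair.w]
      have e := P.AB_AB
      have ht := P.trace_w 0 0 1
      rw [t0, Matrix.trace_fin_two] at ht
      have h := congrFun (congrFun e 0) 0
      simp only [Matrix.mul_apply (M := P.A * P.B) (N := P.A * P.B), Fin.sum_univ_two,
        Matrix.smul_apply, Matrix.one_apply_eq, smul_eq_mul, mul_one] at h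
      rw [det_smul, Fintype.card_fin, Matrix.det_fin_two]
      field_simp
      show _ = u ^ 2
      change _ = -(u * u) at h
      linear_combination (P.A * P.B) 0 0 * ht - h⟩
    have hfix : semiAut a refl' (QuotientGroup.mk s : S2) = QuotientGroup.mk s := by
      rw [semiAut_mk]
      refine mk_eq_of_scalar (c := -1) ?_
      rw [slConj_coe, slField_coe]
      show a.1 * (u⁻¹ • (P.A * P.B)).map (fun x => x) * (a⁻¹).1 = (-1 : F) • (u⁻¹ • (P.A * P.B))
      rw [Matrix.map_id', mul_smul_comm, show a.1 * (P.A * P.B) = -(P.A * P.B * P.A) from by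
        rw [P.AB_A, neg_neg]; exact P.A_AB]
      rw [smul_neg, neg_mul, smul_mul_assoc, show P.A * P.B * P.A * (a⁻¹).1 = P.A * P.B from by
        rw [mul_assoc (P.A * P.B)]; show _ * (a.1 * (a⁻¹).1) = _; rw [Units.mul_inv, mul_one],
        neg_one_smul]
    have hs : (QuotientGroup.mk s : S2) = 1 := by
      have := hfa _ hfix
      rwa [hbot, Subgroup.mem_bot] at this
    obtain ⟨r, -, hr⟩ := Matrix.SpecialLinearGroup.mem_center_iff.1 ((QuotientGroup.eq_one_iff s).1 hs)
    have e : (u * r) • (1 : M2) + P.w 0 0 (-1) = 0 := by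
      have hr' : r • (1 : M2) = u⁻¹ • (P.A * P.B) := by
        rw [smul_one_eq_diagonal, ← scalar_apply]; exact hr
      rw [← smul_smul, hr', smul_smul, mul_inv_cancel₀ hu0]
      simp [Pair.w]
    exact one_ne_zero (neg_eq_zero.1 (P.coeff_eq_zero e).2.2.2)
  · exact htop

end CfsgLib.Recog.GW.Gen
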