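import Cfsg.Agent.Lib.Recog.GW.Gen.Circles
import Mathlib.LinearAlgebra.Matrix.GeneralLinearGroup.Defs
import Mathlib.LinearAlgebra.Dimension.Free
import Mathlib.LinearAlgebra.Dimension.Constructions
import Mathlib.LinearAlgebra.Matrix.Trace
import Mathlib.NumberTheory.LegendreSymbol.QuadraticChar.Basic

/-!
A subgroup of `GL₂(q)`, `q` odd, containing the centralizers of two anticommuting trace-zero
matrices with the same square and non-square determinant is the whole group: the orbit of one of
them covers more than half of the sphere.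
-/

set_option autoImplicit false
set_option linter.unusedSectionVars false

namespace CfsgLib.Recog.GW.Gen

open Matrix

variable {F : Type*} [Field F]

local notation "M2" => Matrix (Fin 2) (Fin 2) F

/-- Two anticommuting matrices with the same square and non-square determinant. -/
structure Pair (F : Type*) [Field F] where
  A : Matrix (Fin 2) (Fin 2) F
  B : Matrix (Fin 2) (Fin 2) F
  u : F
  h2 : (2 : F) ≠ 0
  hu : ¬ IsSquare (-u)
  hA : A * A = u • 1
  hB : B * B = u • 1
  hAB : A * B = -(B * A)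

namespace Pair

variable (P : Pair F)

theorem u_ne : P.u ≠ 0 := fun h => P.hu (by rw [h, neg_zero]; exact IsSquare.zero)

/-- The roles exchanged. -/
def swap : Pair F where
  A := P.B
  B := P.A
  u := P.u
  h2 := P.h2
  hu := P.hu
  hA := P.hB
  hB := P.hA
  hAB := by rw [P.hAB, neg_neg]

/-- Coordinates on the span of `A`, `B`, `AB`. -/
def w (x y z : F) : M2 := x • P.A + y • P.B + z • (P.A * P.B)

theorem swap_w (x y z : F) : P.swap.w y x (-z) = P.w x y z := by
  show y • P.B + x • P.A + (-z) • (P.B * P.A) = _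
  rw [w, P.hAB, smul_neg, neg_smul, add_comm (y • P.B)]

theorem w_A : P.w 1 0 0 = P.A := by simp [w]

theorem BA : P.B * P.A = -(P.A * P.B) := by rw [P.hAB, neg_neg]

theorem A_AB : P.A * (P.A * P.B) = P.u • P.B := by rw [← mul_assoc, P.hA, smul_mul_assoc, one_mul]

theorem AB_A : P.A * P.B * P.A = -(P.u • P.B) := by rw [mul_assoc, P.BA, mul_neg, P.A_AB]

theorem B_AB : P.B * (P.A * P.B) = -(P.u • P.A) := by
  rw [← mul_assoc, P.BA, neg_mul, mul_assoc, P.hB, mul_smul_comm, mul_one]

theorem AB_B : P.A * P.B * P.B = P.u • P.A := by rw [mul_assoc, P.hB, mul_smul_comm, mul_one]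

theorem AB_AB : P.A * P.B * (P.A * P.B) = (-(P.u * P.u)) • (1 : M2) := by
  rw [mul_assoc, P.B_AB, mul_neg, mul_smul_comm, P.hA, smul_smul, neg_smul]

theorem w_mul_self (x y z : F) :
    P.w x y z * P.w x y z = (P.u * (x * x + (y * y - P.u * (z * z)))) • (1 : M2) := by
  simp only [w, add_mul, mul_add, smul_mul_assoc, mul_smul_comm, P.hA, P.hB, P.BA, P.A_AB,
    P.AB_A, P.B_AB, P.AB_B, P.AB_AB, smul_neg, smul_smul]
  module

theorem one_ne : (1 : M2) ≠ 0 := one_ne_zero

theorem li : LinearIndependent F ![(1 : M2), P.A, P.B, P.A * P.B] := by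
  rw [Fintype.linearIndependent_iff]
  intro c hc
  simp only [Fin.sum_univ_four, cons_val_zero, cons_val_one, cons_val, smul_eq_mul] at hc
  have hmove : ∀ X : M2, c 0 • (1 : M2) * X + c 1 • P.A * X + c 2 • P.B * X +
      c 3 • (P.A * P.B) * X = 0 := fun X => by rw [← add_mul, ← add_mul, ← add_mul, hc, zero_mul]
  have hmove' : ∀ X : M2, X * (c 0 • (1 : M2)) + X * (c 1 • P.A) + X * (c 2 • P.B) +
      X * (c 3 • (P.A * P.B)) = 0 := fun X => by rw [← mul_add, ← mul_add, ← mul_add, hc, mul_zero]
  have e1 := congrArg₂ (· + ·) (hmove P.A) (hmove' P.A)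
  simp only [smul_mul_assoc, mul_smul_comm, one_mul, mul_one, P.hA, P.BA, P.A_AB, P.AB_A, smul_neg,
    add_zero] at e1
  have e1' : (2 * c 0) • P.A + (2 * c 1 * P.u) • (1 : M2) = 0 := by
    rw [← e1]; module
  have e2 := congrArg (fun X : M2 => P.B * X * P.B) e1'
  simp only [mul_add, add_mul, mul_smul_comm, smul_mul_assoc, mul_one, P.hB, P.BA, neg_mul,
    P.AB_B, smul_neg, smul_smul, mul_zero, zero_mul] at e2
  have h1 : (4 * c 1 * P.u * P.u) • (1 : M2) = 0 := by
    have h := congrArg₂ (fun X Y : M2 => P.u • X + Y) e1' e2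
    simp only [smul_zero, add_zero] at h
    rw [← h]; module
  have h4 : (4 : F) ≠ 0 := by
    rw [show (4 : F) = 2 * 2 by norm_num]; exact mul_ne_zero P.h2 P.h2
  have hc1 : c 1 = 0 := by
    have := (smul_eq_zero.1 h1).resolve_right one_ne
    simpa [h4, P.u_ne] using this
  have hA0 : P.A ≠ 0 := fun h => by
    have h' := P.hA
    rw [h, mul_zero] at h'
    exact one_ne ((smul_eq_zero.1 h'.symm).resolve_left P.u_ne)
  have hc0 : c 0 = 0 := by
    rw [hc1, mul_zero, zero_mul, zero_smul, add_zero] at e1'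
    exact (mul_eq_zero.1 ((smul_eq_zero.1 e1').resolve_right hA0)).resolve_left P.h2
  rw [hc0, hc1, zero_smul, zero_smul, zero_add, zero_add] at hc
  have e3 := congrArg (fun X : M2 => X * P.B) hc
  simp only [add_mul, smul_mul_assoc, P.hB, P.AB_B, zero_mul, smul_smul] at e3
  have e4 := congrArg (fun X : M2 => P.B * X * P.B) e3
  simp only [mul_add, add_mul, mul_smul_comm, smul_mul_assoc, mul_one, P.hB, P.BA, neg_mul,
    P.AB_B, smul_neg, smul_smul, mul_zero, zero_mul] at e4
  have h2' : (2 * c 2 * P.u * P.u) • (1 : M2) = 0 := by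
    have h := congrArg₂ (fun X Y : M2 => P.u • X + Y) e3 e4
    simp only [smul_zero, add_zero] at h
    rw [← h]; module
  have hc2 : c 2 = 0 := by
    have := (smul_eq_zero.1 h2').resolve_right one_ne
    simpa [P.h2, P.u_ne] using this
  have hc3 : c 3 = 0 := by
    rw [hc2, zero_mul, zero_smul, zero_add] at e3
    exact (mul_eq_zero.1 ((smul_eq_zero.1 e3).resolve_right hA0)).resolve_right P.u_ne
  intro i
  fin_cases i <;> assumption

theorem exists_coords (M : M2) : ∃ c x y z : F, M = c • 1 + P.w x y z := by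
  have hspan : Submodule.span F (Set.range ![(1 : M2), P.A, P.B, P.A * P.B]) = ⊤ :=
    P.li.span_eq_top_of_card_eq_finrank (by simp [Module.finrank_matrix])
  have h : M ∈ Submodule.span F (Set.range ![(1 : M2), P.A, P.B, P.A * P.B]) := hspan ▸ trivial
  obtain ⟨c, hc⟩ := (Submodule.mem_span_range_iff_exists_fun F).1 h
  refine ⟨c 0, c 1, c 2, c 3, ?_⟩
  simp only [Fin.sum_univ_four, cons_val_zero, cons_val_one, cons_val] at hc
  rw [← hc, w]
  abel

theorem coeff_eq_zero {c x y z : F} (h : c • (1 : M2) + P.w x y z = 0) :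
    c = 0 ∧ x = 0 ∧ y = 0 ∧ z = 0 := by
  have := Fintype.linearIndependent_iff.1 P.li ![c, x, y, z] (by
    simp only [Fin.sum_univ_four, cons_val_zero, cons_val_one, cons_val]
    rw [← h, w]; abel)
  exact ⟨this 0, this 1, this 2, this 3⟩

theorem w_inj {x y z x' y' z' : F} (h : P.w x y z = P.w x' y' z') : x = x' ∧ y = y' ∧ z = z' := by
  have := P.coeff_eq_zero (c := 0) (x := x - x') (y := y - y') (z := z - z') (by
    rw [← sub_self (P.w x' y' z')]; nth_rewrite 1 [← h]; simp only [w]; module)
  exact ⟨sub_eq_zero.1 this.2.1, sub_eq_zero.1 this.2.2.1, sub_eq_zero.1 this.2.2.2⟩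

theorem trace_w (x y z : F) : (P.w x y z).trace = 0 := by
  have t1 : P.A.trace = 0 := by
    have h := Matrix.trace_mul_comm P.A (P.A * P.B * P.B)
    have e : P.A * P.B * P.B * P.A = -(P.A * P.B * P.A * P.B) := by
      rw [mul_assoc (P.A * P.B), P.BA, mul_neg, ← mul_assoc]
    have e1 : P.B * P.A * P.B = -(P.u • P.A) := by rw [mul_assoc, P.B_AB]
    have h' := Matrix.trace_mul_comm P.B (P.A * P.B)
    rw [P.B_AB, P.AB_B, trace_neg, trace_smul, smul_eq_mul] at h'
    exact (mul_eq_zero.1 ((mul_eq_zero.1 (show P.u * (2 * P.A.trace) = 0 by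
      linear_combination -h')).resolve_left P.u_ne)).resolve_left P.h2
  have t2 : P.B.trace = 0 := by
    have h' := Matrix.trace_mul_comm P.A (P.A * P.B)
    rw [P.A_AB, P.AB_A, trace_neg, trace_smul, smul_eq_mul] at h'
    exact (mul_eq_zero.1 ((mul_eq_zero.1 (show P.u * (2 * P.B.trace) = 0 by
      linear_combination h')).resolve_left P.u_ne)).resolve_left P.h2
  have t3 : (P.A * P.B).trace = 0 := by
    have h' := Matrix.trace_mul_comm P.A P.B
    rw [P.BA, trace_neg] at h'
    exact (mul_eq_zero.1 (show (2 : F) * (P.A * P.B).trace = 0 by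
      linear_combination h')).resolve_left P.h2
  simp [w, t1, t2, t3]

/-- Rotation about `A`. -/
theorem rot {x y z y' z' p q : F} (h1 : p * (y - y') + P.u * q * (z + z') = 0)
    (h2 : p * (z - z') + q * (y + y') = 0) :
    (p • (1 : M2) + q • P.A) * P.w x y z = P.w x y' z' * (p • (1 : M2) + q • P.A) := by
  simp only [w, add_mul, mul_add, smul_mul_assoc, mul_smul_comm, one_mul, mul_one, P.hA, P.BA,
    P.A_AB, P.AB_A, smul_neg, smul_smul]
  match_scalars
  all_goals
    first | ring1 | linear_combination h1 | linear_combination h2 | linear_combination -h1 | linear_combination -h2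

theorem det_t (p q : F) : (p • (1 : M2) + q • P.A).det = p * p - P.u * (q * q) := by
  have ht : P.A.trace = 0 := by
    have := P.trace_w 1 0 0; rwa [P.w_A] at this
  have h := congrFun (congrFun P.hA 0) 0
  rw [Matrix.trace_fin_two] at ht
  simp only [Matrix.mul_apply, Fin.sum_univ_two, Matrix.smul_apply, Matrix.one_apply_eq,
    smul_eq_mul, mul_one] at h
  rw [Matrix.det_fin_two]
  simp only [Matrix.add_apply, Matrix.smul_apply, Matrix.one_apply_eq, smul_eq_mul,
    Matrix.one_apply_ne (show (0 : Fin 2) ≠ 1 by decide),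
    Matrix.one_apply_ne (show (1 : Fin 2) ≠ 0 by decide)]
  linear_combination (p * q + q * q * P.A 0 0) * ht - q * q * h

variable (X : Subgroup (GL (Fin 2) F))

/-- `X` contains the invertible elements of `F[A]`. -/
def HasTorus : Prop := ∀ g : GL (Fin 2) F, ∀ p q : F, g.1 = p • (1 : M2) + q • P.A → g ∈ X

/-- The point is the image of `A` under `X`. -/
def Reach (x y z : F) : Prop := ∃ g ∈ X, g.1 * P.A = P.w x y z * g.1

variable {P X}

theorem reach_step (hA : P.HasTorus X) {x y z y' z' p q : F}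
    (hd : p * p - P.u * (q * q) ≠ 0) (h1 : p * (y - y') + P.u * q * (z + z') = 0)
    (h2 : p * (z - z') + q * (y + y') = 0) (h : P.Reach X x y z) : P.Reach X x y' z' := by
  obtain ⟨g, hg, e⟩ := h
  let t : GL (Fin 2) F := GeneralLinearGroup.mkOfDetNeZero (p • (1 : M2) + q • P.A)
    (by rw [P.det_t]; exact hd)
  refine ⟨t * g, mul_mem (hA t p q rfl) hg, ?_⟩
  show (p • (1 : M2) + q • P.A) * g.1 * P.A = P.w x y' z' * ((p • (1 : M2) + q • P.A) * g.1)
  rw [mul_assoc, e, ← mul_assoc, P.rot h1 h2, mul_assoc]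

theorem reach_circle (hA : P.HasTorus X) {x y z y' z' : F}
    (hr : y * y - P.u * (z * z) = y' * y' - P.u * (z' * z'))
    (hne : y * y - P.u * (z * z) ≠ 0) (h : P.Reach X x y z) : P.Reach X x y' z' := by
  by_cases hd : (y + y') * (y + y') - P.u * ((z' - z) * (z' - z)) = 0
  · refine reach_step hA (p := P.u * (z + z')) (q := y' - y) ?_ (by ring)
      (by linear_combination -hr) h
    intro hd2
    have h4 : (4 : F) ≠ 0 := by
      rw [show (4 : F) = 2 * 2 by norm_num]; exact mul_ne_zero P.h2 P.h2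
    refine hne ((mul_eq_zero.1 (show (4 : F) * P.u * (y * y - P.u * (z * z)) = 0 by
      linear_combination P.u * hd - hd2 + 2 * P.u * hr)).resolve_left
        (mul_ne_zero h4 P.u_ne))
  · exact reach_step hA hd (by linear_combination hr) (by ring) h

theorem reach_scale (hA : P.HasTorus X) {x y z l : F} (hl : l ≠ 0) (hy : y ≠ 0)
    (hr : y * y - P.u * (z * z) = 0) (h : P.Reach X x y z) : P.Reach X x (l * y) (l * z) := by
  refine reach_step hA (p := y * (1 + l)) (q := -(z * (1 - l))) ?_ ?_ (by ring) h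
  · intro e
    have h4 : (4 : F) ≠ 0 := by
      rw [show (4 : F) = 2 * 2 by norm_num]; exact mul_ne_zero P.h2 P.h2
    exact mul_ne_zero (mul_ne_zero h4 hl) (mul_ne_zero hy hy)
      (by linear_combination e - (1 - l) * (1 - l) * hr)
  · linear_combination (1 + l) * (1 - l) * hr

theorem reach_swap {x y z : F} (h : P.Reach X x y z) :
    ∃ g ∈ X, g.1 * P.A = P.swap.w y x (-z) * g.1 := by
  rw [P.swap_w]; exact h

/-- Rotation about `B`. -/
theorem reach_circle' (hB : P.swap.HasTorus X) {x y z x' z' : F}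
    (hr : x * x - P.u * (z * z) = x' * x' - P.u * (z' * z'))
    (hne : x * x - P.u * (z * z) ≠ 0) (h : P.Reach X x y z) : P.Reach X x' y z' := by
  obtain ⟨g, hg, e⟩ := h
  have hu : P.swap.u = P.u := rfl
  -- transport through the exchanged pair
  have key : ∀ p q : F, p * p - P.u * (q * q) ≠ 0 →
      p * (x - x') + P.u * q * (-z + -z') = 0 → p * (-z - -z') + q * (x + x') = 0 →
      P.Reach X x' y z' := by
    intro p q hd h1 h2
    let t : GL (Fin 2) F := GeneralLinearGroup.mkOfDetNeZero (p • (1 : M2) + q • P.swap.A)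
      (by rw [P.swap.det_t]; exact hd)
    refine ⟨t * g, mul_mem (hB t p q rfl) hg, ?_⟩
    show (p • (1 : M2) + q • P.swap.A) * g.1 * P.A =
      P.w x' y z' * ((p • (1 : M2) + q • P.swap.A) * g.1)
    rw [mul_assoc, e, ← P.swap_w x y z, ← P.swap_w x' y z', ← mul_assoc,
      P.swap.rot (x := y) h1 h2, mul_assoc]
  by_cases hd : (x + x') * (x + x') - P.u * ((-z' - -z) * (-z' - -z)) = 0
  · refine key (P.u * (-z + -z')) (x' - x) ?_ (by ring) (by linear_combination -hr)
    intro hd2
    have h4 : (4 : F) ≠ 0 := by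
      rw [show (4 : F) = 2 * 2 by norm_num]; exact mul_ne_zero P.h2 P.h2
    refine hne ((mul_eq_zero.1 (show (4 : F) * P.u * (x * x - P.u * (z * z)) = 0 by
      linear_combination P.u * hd - hd2 + 2 * P.u * hr)).resolve_left
        (mul_ne_zero h4 P.u_ne))
  · exact key (x + x') (-z' - -z) hd (by linear_combination hr) (by ring)

theorem reach_scale' (hB : P.swap.HasTorus X) {x y z l : F} (hl : l ≠ 0) (hx : x ≠ 0)
    (hr : x * x - P.u * (z * z) = 0) (h : P.Reach X x y z) : P.Reach X (l * x) y (l * z) := by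
  obtain ⟨g, hg, e⟩ := h
  have hd : (x * (1 + l)) * (x * (1 + l)) - P.u * (-(-z * (1 - l)) * -(-z * (1 - l))) ≠ 0 := by
    intro e'
    have h4 : (4 : F) ≠ 0 := by
      rw [show (4 : F) = 2 * 2 by norm_num]; exact mul_ne_zero P.h2 P.h2
    exact mul_ne_zero (mul_ne_zero h4 hl) (mul_ne_zero hx hx)
      (by linear_combination e' - (1 - l) * (1 - l) * hr)
  let t : GL (Fin 2) F := GeneralLinearGroup.mkOfDetNeZero
    ((x * (1 + l)) • (1 : M2) + (-(-z * (1 - l))) • P.swap.A) (by rw [P.swap.det_t]; exact hd)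
  refine ⟨t * g, mul_mem (hB t _ _ rfl) hg, ?_⟩
  show ((x * (1 + l)) • (1 : M2) + (-(-z * (1 - l))) • P.swap.A) * g.1 * P.A =
    P.w (l * x) y (l * z) * (((x * (1 + l)) • (1 : M2) + (-(-z * (1 - l))) • P.swap.A) * g.1)
  rw [mul_assoc, e, ← P.swap_w x y z, ← P.swap_w (l * x) y (l * z), ← mul_assoc,
    P.swap.rot (x := y) (y' := l * x) (z' := -(l * z)) (p := x * (1 + l)) (q := -(-z * (1 - l)))
      (show x * (1 + l) * (x - l * x) + P.u * -(-z * (1 - l)) * (-z + -(l * z)) = 0 by
        linear_combination (1 + l) * (1 - l) * hr)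
      (by ring), mul_assoc]

variable [Fintype F] [DecidableEq F]

theorem reach_A : P.Reach X 1 0 0 :=
  ⟨1, one_mem X, by rw [P.w_A, Units.val_one, one_mul, mul_one]⟩

theorem reach_pm (hB : P.swap.HasTorus X) {x : F} (hx : x * x = 1) : P.Reach X x 0 0 :=
  reach_circle' hB (by rw [mul_zero, mul_zero, sub_zero, sub_zero, mul_one, hx]) (by simp)
    (reach_A (P := P) (X := X))

omit [DecidableEq F] in
theorem isSquare_mul_not {a b : F} (ha : ¬ IsSquare a) (hb : ¬ IsSquare b) : IsSquare (a * b) := by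
  classical
  have ha0 : a ≠ 0 := fun h => ha (h ▸ IsSquare.zero)
  have hb0 : b ≠ 0 := fun h => hb (h ▸ IsSquare.zero)
  refine (quadraticChar_one_iff_isSquare (mul_ne_zero ha0 hb0)).1 ?_
  rw [map_mul, quadraticChar_neg_one_iff_not_isSquare.2 ha,
    quadraticChar_neg_one_iff_not_isSquare.2 hb]
  norm_num

theorem reach_nsq (hA : P.HasTorus X) (hB : P.swap.HasTorus X) {x y z : F}
    (hx : ¬ IsSquare (1 - x * x)) (hc : y * y - P.u * (z * z) = 1 - x * x) :
    P.Reach X x y z := by
  obtain ⟨c, hc'⟩ := isSquare_mul_not hx P.hu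
  have hu := P.u_ne
  have hne : (1 : F) - x * x ≠ 0 := fun h => hx (h ▸ IsSquare.zero)
  have hz0 : (0 : F) * 0 - P.u * (c / P.u * (c / P.u)) = 1 - x * x := by
    field_simp
    linear_combination hc'
  refine reach_circle hA (hz0.trans hc.symm) (hz0 ▸ hne) ?_
  refine reach_circle' hB (x := 1) (z := 0) ?_ (by simp) reach_A
  linear_combination -hz0

/-- The points on one isotropic line over `±1`. -/
theorem reach_iso (hA : P.HasTorus X) (hB : P.swap.HasTorus X) (h5 : 5 ≤ Fintype.card F) {s : F}
    (hs : s * s = P.u) {x₁ : F} (hx₁ : ¬ IsSquare (1 - x₁ * x₁)) {x : F} (hx : x * x = 1) (z : F) :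
    P.Reach X x (s * z) z := by
  rcases eq_or_ne z 0 with rfl | hz
  · rw [mul_zero]; exact reach_pm hB hx
  have hs0 : s ≠ 0 := fun h => P.u_ne (by rw [← hs, h, mul_zero])
  obtain ⟨y, z₁, hy, hc⟩ := exists_ne_zero_point h5 P.h2 hs0 hs (1 - x₁ * x₁)
  -- it suffices to reach one nonzero point of the line
  suffices h : P.Reach X x y (y / s) by
    have h' := reach_scale hA (l := z * s / y) (div_ne_zero (mul_ne_zero hz hs0) hy) hy
      (by rw [← hs]; field_simp; ring) h
    rwa [div_mul_cancel₀ _ hy, show z * s / y * (y / s) = z by field_simp, mul_comm z s] at h'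
  by_cases hy1 : y * y = 1
  · have hx0 : x₁ ≠ 0 := fun h => hx₁ (by rw [h, mul_zero, sub_zero]; exact IsSquare.one)
    have hx0' : x ≠ 0 := fun h => by rw [h, mul_zero] at hx; exact zero_ne_one hx
    have hz1 : z₁ ≠ 0 := fun h => hx₁ ⟨y, by rw [h] at hc; linear_combination -hc⟩
    have hiso : x₁ * x₁ - P.u * (z₁ * z₁) = 0 := by linear_combination hc - hy1
    have hsq : (x / x₁ * z₁) * (x / x₁ * z₁) = y / s * (y / s) := by
      field_simp
      rw [← hs] at hiso
      linear_combination (s * s * z₁ * z₁) * hx - (x₁ * x₁) * hy1 - hiso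
    rcases mul_self_eq_mul_self_iff.1 hsq with e | e
    · have h := reach_scale' hB (div_ne_zero hx0' hx0) hx0 hiso (reach_nsq hA hB hx₁ hc)
      rwa [div_mul_cancel₀ _ hx0, e] at h
    · have h := reach_scale' hB (z := -z₁) (div_ne_zero hx0' hx0) hx0
        (by linear_combination hiso)
        (reach_nsq hA hB (y := y) hx₁ (by linear_combination hc))
      rwa [div_mul_cancel₀ _ hx0, mul_neg, e, neg_neg] at h
  · refine reach_circle' hB (x := x₁) (z := z₁) ?_ ?_ (reach_nsq hA hB hx₁ hc)
    · rw [← hs] at hc ⊢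
      field_simp
      linear_combination hc - hx
    · intro h
      exact hy1 (by linear_combination hc - h)

/-- The sphere. -/
def sphere : Finset (Σ _ : F, F × F) := sphereOn P.u Finset.univ

theorem mem_sphere {s : Σ _ : F, F × F} :
    s ∈ P.sphere ↔ s.1 * s.1 + (s.2.1 * s.2.1 - P.u * (s.2.2 * s.2.2)) = 1 := by
  simp only [sphere, sphereOn, Finset.mem_sigma, Finset.mem_univ, true_and, mem_circle]
  constructor <;> intro h <;> linear_combination h

/-- The points in the orbit. -/
noncomputable def good (P : Pair F) (X : Subgroup (GL (Fin 2) F)) : Finset (Σ _ : F, F × F) :=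
  open Classical in P.sphere.filter fun s => P.Reach X s.1 s.2.1 s.2.2

theorem card_sphereOn {S : Finset F} (hS : ∀ x ∈ S, 1 - x * x ≠ 0) :
    (sphereOn P.u S).card = S.card * (circle P.u 1).card := by
  rw [sphereOn, Finset.card_sigma]
  exact Finset.sum_const_nat fun x hx => card_circle P.h2 P.u_ne (hS x hx)

theorem more_than_half (hA : P.HasTorus X) (hB : P.swap.HasTorus X) (h5 : 5 ≤ Fintype.card F) :
    P.sphere.card < 2 * (P.good X).card := by
  classical
  have h2 := P.h2
  obtain ⟨hsq1, hsq2⟩ := two_mul_card_sqX (F := F) h2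
  have hsplit := card_x_split (F := F) h2
  have hnne : ∀ x ∈ nsqX (F := F), 1 - x * x ≠ 0 := fun x hx h => by
    simp only [nsqX, Finset.mem_filter] at hx
    exact hx.2 (h ▸ IsSquare.zero)
  have hsne : ∀ x ∈ sqX (F := F), 1 - x * x ≠ 0 := fun x hx => by
    simp only [sqX, Finset.mem_filter] at hx
    exact hx.2.2
  have hgood1 : sphereOn P.u (nsqX (F := F)) ⊆ P.good X := fun p hp => by
    simp only [sphereOn, Finset.mem_sigma, mem_circle, nsqX, Finset.mem_filter] at hp
    simp only [good, Finset.mem_filter, mem_sphere]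
    exact ⟨by linear_combination hp.2, reach_nsq hA hB hp.1.2 hp.2⟩
  have hpm : ∀ x ∈ ({1, -1} : Finset F), x * x = 1 := by
    intro x hx
    simp only [Finset.mem_insert, Finset.mem_singleton] at hx
    rcases hx with rfl | rfl <;> ring
  have hpmc : ({1, -1} : Finset F).card = 2 :=
    Finset.card_pair fun e => h2 (by linear_combination e)
  have hdis : ∀ f : Finset (Σ _ : F, F × F), (∀ p ∈ f, p.1 * p.1 = 1) →
      Disjoint (sphereOn P.u (nsqX (F := F))) f := by
    intro f hf
    refine Finset.disjoint_left.2 fun p hp hp' => ?_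
    simp only [sphereOn, Finset.mem_sigma] at hp
    exact hnne _ hp.1 (by rw [hf p hp', sub_self])
  have hrest : P.sphere \ P.good X ⊆ sphereOn P.u (sqX (F := F)) ∪
      (P.sphere \ P.good X).filter fun p => 1 - p.1 * p.1 = 0 := by
    intro p hp
    by_cases h0 : 1 - p.1 * p.1 = 0
    · exact Finset.mem_union_right _ (Finset.mem_filter.2 ⟨hp, h0⟩)
    refine Finset.mem_union_left _ ?_
    simp only [good, Finset.mem_sdiff, Finset.mem_filter, mem_sphere, not_and] at hp
    simp only [sphereOn, Finset.mem_sigma, sqX, Finset.mem_filter, Finset.mem_univ, true_and,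
      mem_circle]
    refine ⟨⟨?_, h0⟩, by linear_combination hp.1⟩
    by_contra hns
    exact hp.2 hp.1 (reach_nsq hA hB hns (by linear_combination hp.1))
  have hcardN := P.card_sphereOn hnne
  have hcardS := P.card_sphereOn hsne
  have hsd : (P.sphere \ P.good X).card + (P.good X).card = P.sphere.card :=
    Finset.card_sdiff_add_card_eq_card (Finset.filter_subset _ _)
  by_cases hus : IsSquare P.u
  · obtain ⟨s, hs⟩ := hus
    have hs' : s * s = P.u := hs.symm
    have hs0 : s ≠ 0 := fun h => P.u_ne (by rw [hs, h, mul_zero])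
    have hnpos : 0 < (nsqX (F := F)).card := by omega
    obtain ⟨x₁, hx₁⟩ := Finset.card_pos.1 hnpos
    simp only [nsqX, Finset.mem_filter] at hx₁
    -- one isotropic line over each of `±1`
    let E := (({1, -1} : Finset F) ×ˢ (Finset.univ : Finset F)).image
      fun p => (⟨p.1, (s * p.2, p.2)⟩ : Σ _ : F, F × F)
    have hEc : E.card = 2 * Fintype.card F := by
      rw [Finset.card_image_of_injective, Finset.card_product, hpmc, Finset.card_univ]
      intro p q h
      simp only [Sigma.mk.injEq, heq_eq_eq, Prod.mk.injEq] at h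
      exact Prod.ext h.1 h.2.2
    have hEx : ∀ p ∈ E, p.1 * p.1 = 1 := by
      intro p hp
      simp only [E, Finset.mem_image, Finset.mem_product] at hp
      obtain ⟨q, hq, rfl⟩ := hp
      exact hpm _ hq.1
    have hE : E ⊆ P.good X := by
      intro p hp
      simp only [E, Finset.mem_image, Finset.mem_product] at hp
      obtain ⟨q, hq, rfl⟩ := hp
      simp only [good, Finset.mem_filter, mem_sphere]
      exact ⟨by rw [← hs']; linear_combination hpm _ hq.1,
        reach_iso hA hB h5 hs' hx₁.2 (hpm _ hq.1) q.2⟩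
    have hlo := Finset.card_le_card (Finset.union_subset hgood1 hE)
    rw [Finset.card_union_of_disjoint (hdis E hEx), hEc, hcardN] at hlo
    have hempty : ((P.sphere \ P.good X).filter fun p => 1 - p.1 * p.1 = 0) = ∅ := by
      refine Finset.eq_empty_iff_forall_notMem.2 fun p hp => ?_
      obtain ⟨x, y, z⟩ := p
      simp only [Finset.mem_filter, Finset.mem_sdiff, good, mem_sphere, not_and] at hp
      obtain ⟨⟨hsp, hng⟩, hx0⟩ := hp
      have hiso : y * y = (s * z) * (s * z) := by
        rw [← hs'] at hsp; linear_combination hsp + hx0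
      refine hng hsp ?_
      rcases mul_self_eq_mul_self_iff.1 hiso with rfl | rfl
      · exact reach_iso hA hB h5 hs' hx₁.2 (by linear_combination -hx0) z
      · rw [← neg_mul]
        exact reach_iso hA hB h5 (by rw [neg_mul_neg]; exact hs') hx₁.2
          (by linear_combination -hx0) z
    rw [hempty, Finset.union_empty] at hrest
    have hup := Finset.card_le_card hrest
    rw [hcardS] at hup
    have hN := card_circle_one_le h2 hs0 hs'
    have hmul : (sqX (F := F)).card * (circle P.u 1).card ≤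
        ((nsqX (F := F)).card + 1) * (circle P.u 1).card := Nat.mul_le_mul_right _ (by omega)
    rw [Nat.add_mul, one_mul] at hmul
    generalize (sqX (F := F)).card * (circle P.u 1).card = a,
      (nsqX (F := F)).card * (circle P.u 1).card = b at *
    omega
  · have hm1 : IsSquare (-1 : F) := by
      by_contra h
      refine P.hu ?_
      rw [show -P.u = (-1) * P.u by ring]
      exact isSquare_mul_not h hus
    have hlt : (sqX (F := F)).card + 1 ≤ (nsqX (F := F)).card := by
      have := hsq2 hm1; omega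
    let E : Finset (Σ _ : F, F × F) := ({1, -1} : Finset F).image fun x => ⟨x, (0, 0)⟩
    have hEc : E.card = 2 := by
      rw [Finset.card_image_of_injective, hpmc]
      exact fun a b h => congrArg Sigma.fst h
    have hE : E ⊆ P.good X := by
      intro p hp
      simp only [E, Finset.mem_image] at hp
      obtain ⟨x, hx, rfl⟩ := hp
      simp only [good, Finset.mem_filter, mem_sphere]
      exact ⟨by linear_combination hpm x hx, reach_pm hB (hpm x hx)⟩
    have hEx : ∀ p ∈ E, p.1 * p.1 = 1 := by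
      intro p hp
      simp only [E, Finset.mem_image] at hp
      obtain ⟨x, hx, rfl⟩ := hp
      exact hpm x hx
    have hlo := Finset.card_le_card (Finset.union_subset hgood1 hE)
    rw [Finset.card_union_of_disjoint (hdis E hEx), hEc, hcardN] at hlo
    have hempty : ((P.sphere \ P.good X).filter fun p => 1 - p.1 * p.1 = 0) = ∅ := by
      refine Finset.eq_empty_iff_forall_notMem.2 fun p hp => ?_
      obtain ⟨x, y, z⟩ := p
      simp only [Finset.mem_filter, Finset.mem_sdiff, good, mem_sphere, not_and] at hp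
      obtain ⟨⟨hsp, hng⟩, hx0⟩ := hp
      have hz : z = 0 := by
        by_contra hz
        exact hus ⟨y / z, by field_simp; linear_combination -hsp - hx0⟩
      subst hz
      have hy : y = 0 := mul_self_eq_zero.1 (by linear_combination hsp + hx0)
      subst hy
      exact hng hsp (reach_pm hB (by linear_combination -hx0))
    rw [hempty, Finset.union_empty] at hrest
    have hup := Finset.card_le_card hrest
    rw [hcardS] at hup
    have hmul : (sqX (F := F)).card * (circle P.u 1).card ≤
        (nsqX (F := F)).card * (circle P.u 1).card :=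
      Nat.mul_le_mul_right _ (by omega)
    generalize (sqX (F := F)).card * (circle P.u 1).card = a,
      (nsqX (F := F)).card * (circle P.u 1).card = b at *
    omega

theorem exists_image (g : GL (Fin 2) F) {p : Σ _ : F, F × F} (hp : p ∈ P.sphere) :
    ∃ q ∈ P.sphere, g.1 * P.w p.1 p.2.1 p.2.2 * (g⁻¹).1 = P.w q.1 q.2.1 q.2.2 := by
  obtain ⟨c, x, y, z, h⟩ := P.exists_coords (g.1 * P.w p.1 p.2.1 p.2.2 * (g⁻¹).1)
  have ht := congrArg Matrix.trace h
  rw [Matrix.trace_mul_cycle, Units.inv_mul, one_mul, P.trace_w, trace_add, trace_smul, P.trace_w,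
    Matrix.trace_one, Fintype.card_fin, add_zero, smul_eq_mul] at ht
  have hc : c = 0 := (mul_eq_zero.1 ht.symm).resolve_right (by exact_mod_cast P.h2)
  rw [hc, zero_smul, zero_add] at h
  refine ⟨⟨x, (y, z)⟩, ?_, h⟩
  have hsq : P.w x y z * P.w x y z =
      g.1 * (P.w p.1 p.2.1 p.2.2 * P.w p.1 p.2.1 p.2.2) * (g⁻¹).1 := by
    rw [← h]
    simp only [mul_assoc]
    rw [← mul_assoc (g⁻¹).1 g.1, Units.inv_mul, one_mul]
  rw [P.w_mul_self, P.w_mul_self, mem_sphere.1 hp, mul_one, mul_smul_comm, smul_mul_assoc,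
    mul_one, Units.mul_inv] at hsq
  rw [mem_sphere]
  refine mul_left_cancel₀ P.u_ne ?_
  rw [mul_one]
  exact smul_left_injective F (one_ne (F := F)) hsq

/-- The two centralizers generate. -/
theorem eq_top (hA : P.HasTorus X) (hB : P.swap.HasTorus X) (h5 : 5 ≤ Fintype.card F) : X = ⊤ := by
  classical
  refine eq_top_iff.2 fun g _ => ?_
  choose f hf hfe using fun (p : Σ _ : F, F × F) (hp : p ∈ P.sphere) => exists_image g hp
  have hsub : P.good X ⊆ P.sphere := Finset.filter_subset _ _
  let I := (P.good X).attach.image fun p => f p.1 (hsub p.2)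
  have hIc : I.card = (P.good X).card := by
    rw [Finset.card_image_of_injective, Finset.card_attach]
    intro p q h
    have e : g.1 * P.w p.1.1 p.1.2.1 p.1.2.2 * (g⁻¹).1 = g.1 * P.w q.1.1 q.1.2.1 q.1.2.2 * (g⁻¹).1 := by
      rw [hfe _ (hsub p.2), hfe _ (hsub q.2)]
      exact congrArg (fun r : Σ _ : F, F × F => P.w r.1 r.2.1 r.2.2) h
    obtain ⟨h1, h2, h3⟩ := P.w_inj (g.isUnit.mul_left_cancel ((g⁻¹).isUnit.mul_right_cancel e))
    exact Subtype.ext (Sigma.ext h1 (heq_of_eq (Prod.ext h2 h3)))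
  obtain ⟨q, hq⟩ : ((P.good X) ∩ I).Nonempty := by
    refine Finset.card_pos.1 ?_
    have h1 := Finset.card_union_add_card_inter (P.good X) I
    have h2 := Finset.card_le_card (Finset.union_subset hsub
      (Finset.image_subset_iff.2 fun p _ => hf _ (hsub p.2)) : P.good X ∪ I ⊆ P.sphere)
    have h3 := more_than_half hA hB h5
    omega
  simp only [Finset.mem_inter, I, Finset.mem_image, Finset.mem_attach, true_and] at hq
  obtain ⟨hqg, ⟨p, hpg⟩, hpq⟩ := hq
  simp only [good, Finset.mem_filter] at hqg hpg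
  obtain ⟨g₁, hg₁, e₁⟩ := hpg.2
  obtain ⟨g₂, hg₂, e₂⟩ := hqg.2
  have e := hfe p hpg.1
  rw [show f p hpg.1 = q from hpq] at e
  -- the product fixes `A`
  have hcomm : (g₂⁻¹ * g * g₁).1 * P.A = P.A * (g₂⁻¹ * g * g₁).1 := by
    calc (g₂⁻¹ * g * g₁).1 * P.A = (g₂⁻¹).1 * (g.1 * (g₁.1 * P.A)) := by
          simp only [Units.val_mul, mul_assoc]
      _ = (g₂⁻¹).1 * (g.1 * P.w p.1 p.2.1 p.2.2 * (g⁻¹).1 * g.1) * g₁.1 := by
          rw [e₁]; simp only [mul_assoc, Units.inv_mul, mul_one]
      _ = (g₂⁻¹).1 * (P.w q.1 q.2.1 q.2.2 * g₂.1 * (g₂⁻¹).1) * g.1 * g₁.1 := by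
          rw [e]; simp only [mul_assoc, Units.mul_inv, mul_one]
      _ = P.A * (g₂⁻¹ * g * g₁).1 := by
          rw [← e₂]; simp only [Units.val_mul, ← mul_assoc, Units.inv_mul, one_mul]
  obtain ⟨c, x, y, z, hM⟩ := P.exists_coords (g₂⁻¹ * g * g₁).1
  rw [hM] at hcomm
  have h0 : (0 : F) • (1 : M2) + P.w 0 (-(2 * P.u) * z) (-(2 : F) * y) = 0 := by
    rw [← sub_self ((c • (1 : M2) + P.w x y z) * P.A)]
    nth_rewrite 2 [hcomm]
    simp only [w, add_mul, mul_add, smul_mul_assoc, mul_smul_comm, one_mul, mul_one, P.hA, P.BA,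
      P.A_AB, P.AB_A, smul_neg, smul_smul]
    module
  obtain ⟨-, -, hz, hy⟩ := P.coeff_eq_zero h0
  have hz' : z = 0 := (mul_eq_zero.1 hz).resolve_left (neg_ne_zero.2 (mul_ne_zero P.h2 P.u_ne))
  have hy' : y = 0 := (mul_eq_zero.1 hy).resolve_left (neg_ne_zero.2 P.h2)
  have hx := hA _ c x (by rw [hM, hy', hz']; simp [w])
  have := mul_mem (mul_mem hg₂ hx) (inv_mem hg₁)
  simpa [mul_assoc] using this

end Pair

end CfsgLib.Recog.GW.Gen
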